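import Groth.Agent.PtTopLib.Catenary
import Groth.Agent.CatenaryLib.Basic
import Mathlib.AlgebraicGeometry.Noetherian
import Mathlib.AlgebraicGeometry.Morphisms.FiniteType

/-!
# Catenary schemes
-/

set_option autoImplicit false
set_option backward.isDefEq.respectTransparency.types false
set_option linter.style.haveILetI false

universe u

open TopologicalSpace

namespace Groth.Agent.CatenarySch

/-- Catenarity of an ordered set. -/
def OCat (α : Type*) [Preorder α] : Prop :=
  (∀ a b : α, a ≤ b → ∃ n : ℕ, ∀ s : LTSeries α, s.head = a → s.last = b → s.length ≤ n) ∧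
  ∀ s t : LTSeries α, s.head = t.head → s.last = t.last →
    PtTopLib.Saturated s → PtTopLib.Saturated t → s.length = t.length

/-- Transfer of catenarity along an antitone equivalence. -/
theorem OCat.of_dual {α β : Type*} [Preorder α] [Preorder β] (e : β ≃o αᵒᵈ) (h : OCat α) : OCat β := by
  have key : ∀ s : LTSeries β, ∃ t : LTSeries α, t.length = s.length ∧ t.head = OrderDual.ofDual (e s.last) ∧
      t.last = OrderDual.ofDual (e s.head) ∧ (PtTopLib.Saturated s → PtTopLib.Saturated t) := by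
    intro s
    refine ⟨⟨s.length, fun i => OrderDual.ofDual (e (s i.rev)), fun i => ?_⟩, rfl, ?_, ?_, fun hs i => ?_⟩
    · show OrderDual.ofDual (e (s i.castSucc.rev)) < OrderDual.ofDual (e (s i.succ.rev))
      rw [Fin.rev_castSucc, Fin.rev_succ]
      exact e.lt_iff_lt.2 (s.step i.rev)
    · show OrderDual.ofDual (e (s (Fin.rev 0))) = _
      rw [Fin.rev_zero]; rfl
    · show OrderDual.ofDual (e (s (Fin.rev (Fin.last _)))) = _
      rw [Fin.rev_last]; rfl
    · show OrderDual.ofDual (e (s i.castSucc.rev)) ⋖ OrderDual.ofDual (e (s i.succ.rev))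
      rw [Fin.rev_castSucc, Fin.rev_succ]
      have h1 := (apply_covBy_apply_iff e).2 (hs i.rev)
      exact ofDual_covBy_ofDual_iff.2 h1
  refine ⟨fun a b hab => ?_, fun s t h1 h2 hs ht => ?_⟩
  · obtain ⟨n, hn⟩ := h.1 (OrderDual.ofDual (e b)) (OrderDual.ofDual (e a)) (e.le_iff_le.2 hab)
    refine ⟨n, fun s hs1 hs2 => ?_⟩
    obtain ⟨t, t1, t2, t3, -⟩ := key s
    exact t1 ▸ hn t (by rw [t2, hs2]) (by rw [t3, hs1])
  · obtain ⟨s', a1, a2, a3, a4⟩ := key s
    obtain ⟨t', b1, b2, b3, b4⟩ := key t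
    rw [← a1, ← b1]
    exact h.2 s' t' (by rw [a2, b2, h2]) (by rw [a3, b3, h1]) (a4 hs) (b4 ht)

theorem isCatenarySpace_iff_OCat (X : Type u) [TopologicalSpace X] :
    PtTop.IsCatenarySpace X ↔ OCat (IrreducibleCloseds X) := by
  constructor
  · intro h
    refine ⟨fun a b hab => ?_, fun s t h1 h2 hs ht => ?_⟩
    · obtain ⟨N, hN⟩ := ENat.ne_top_iff_exists.1 (h a b hab).1
      exact ⟨N, fun s s1 s2 => Nat.cast_le.1 ((PtTopLib.length_le_codim s s1 s2.le).trans hN.ge)⟩
    · have hle : s.head ≤ s.last := s.monotone (Fin.zero_le _)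
      have e1 := (h _ _ hle).2 s rfl rfl hs
      have e2 := (h _ _ hle).2 t h1.symm h2.symm ht
      exact_mod_cast e1.trans e2.symm
  · intro h T T' hT
    obtain ⟨n, hn⟩ := h.1 T T' hT
    have hfin : PtTop.codim T (T' : Set X) ≠ ⊤ := by
      refine ne_top_of_le_ne_top (ENat.natCast_ne_top n) (PtTopLib.codim_le fun s s1 s2 => Nat.cast_le.2 ?_)
      rcases s2.eq_or_lt with e | e
      · exact hn s s1 e
      · have := hn (s.snoc T' e) (by rw [RelSeries.head_snoc, s1]) (RelSeries.last_snoc _ _ _)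
        simp only [RelSeries.snoc_length] at this
        omega
    refine ⟨hfin, fun s s1 s2 hs => ?_⟩
    obtain ⟨t, t1, t2, t3, t4⟩ := PtTopLib.exists_saturated hT hfin
    rw [← t4, h.2 s t (s1.trans t1.symm) (s2.trans t2.symm) hs t3]

theorem isCatenarySpace_primeSpectrum_iff (R : Type u) [CommRing R] :
    PtTop.IsCatenarySpace (PrimeSpectrum R) ↔ CAlg.IsCatenary R := by
  rw [isCatenarySpace_iff_OCat]
  have e := PrimeSpectrum.pointsEquivIrreducibleCloseds R
  refine ⟨fun h => OCat.of_dual e h, fun h => ?_⟩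
  exact OCat.of_dual ((OrderIso.dualDual _).trans e.symm.dual) (show OCat (PrimeSpectrum R) from h)

theorem isCatenarySpace_congr {X Y : Type u} [TopologicalSpace X] [TopologicalSpace Y] (e : X ≃ₜ Y)
    (h : PtTop.IsCatenarySpace Y) : PtTop.IsCatenarySpace X := by
  let f : IrreducibleCloseds X ↪o IrreducibleCloseds Y :=
    OrderEmbedding.ofMapLEIff (IrreducibleCloseds.map e e.continuous) fun a b => by
      refine ⟨fun hab x hx => ?_, fun hab => IrreducibleCloseds.map_mono e.continuous hab⟩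
      have h2 : e x ∈ closure (e '' (b : Set X)) := hab (subset_closure ⟨x, hx, rfl⟩)
      rw [(e.isClosed_image.2 b.isClosed).closure_eq] at h2
      obtain ⟨y, hy, hxy⟩ := h2
      exact e.injective hxy ▸ hy
  refine PtTopLib.catenary_transfer f ⟨fun a _ b _ c _ => ?_⟩ h
  refine ⟨IrreducibleCloseds.map e.symm e.symm.continuous c, SetLike.coe_injective ?_⟩
  show closure (e '' closure (e.symm '' (c : Set Y))) = _
  rw [(e.symm.isClosed_image.2 c.isClosed).closure_eq, ← Set.image_comp]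
  simp [c.isClosed.closure_eq]

open AlgebraicGeometry in
theorem isCatenarySpace_affineOpen_iff {S : Scheme.{u}} {U : S.Opens} (hU : IsAffineOpen U) :
    PtTop.IsCatenarySpace U ↔ CAlg.IsCatenary Γ(S, U) := by
  rw [← isCatenarySpace_primeSpectrum_iff]
  exact ⟨isCatenarySpace_congr hU.isoSpec.hom.homeomorph.symm,
    isCatenarySpace_congr hU.isoSpec.hom.homeomorph⟩

theorem covBy_of_lowerEmb {X Y : Type*} [Preorder X] [Preorder Y] (f : X → Y)
    (hf : ∀ a b, f a ≤ f b ↔ a ≤ b) {a b : X} (h : f a ⋖ f b) : a ⋖ b := by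
  have hlt : ∀ a b, f a < f b ↔ a < b := fun a b => by rw [lt_iff_le_not_ge, lt_iff_le_not_ge, hf, hf]
  exact ⟨(hlt a b).1 h.1, fun c h1 h2 => h.2 ((hlt a c).2 h1) ((hlt c b).2 h2)⟩

/-- Catenarity is local. -/
theorem isCatenary_of_atPrime (R : Type u) [CommRing R]
    (h : ∀ (p : Ideal R) [p.IsPrime], CAlg.IsCatenary (Localization.AtPrime p)) : CAlg.IsCatenary R := by
  have lift : ∀ (q : PrimeSpectrum R) (s : LTSeries (PrimeSpectrum R)), s.last = q →
      ∃ t : LTSeries (PrimeSpectrum (Localization.AtPrime q.asIdeal)), t.length = s.length ∧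
        PrimeSpectrum.comap (algebraMap R _) t.head = s.head ∧
        PrimeSpectrum.comap (algebraMap R _) t.last = s.last ∧
        (PtTopLib.Saturated s → PtTopLib.Saturated t) := by
    intro q s hs
    set f := PrimeSpectrum.comap (algebraMap R (Localization.AtPrime q.asIdeal)) with hfdef
    have hf : ∀ a b, f a ≤ f b ↔ a ≤ b := fun a b => ⟨fun hab => by
      show a.asIdeal ≤ b.asIdeal
      rw [← IsLocalization.map_under q.asIdeal.primeCompl (Localization.AtPrime q.asIdeal) a.asIdeal,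
        ← IsLocalization.map_under q.asIdeal.primeCompl (Localization.AtPrime q.asIdeal) b.asIdeal]
      exact Ideal.map_mono hab, fun hab => Ideal.comap_mono hab⟩
    have hmem : ∀ i, s i ∈ Set.range f := fun i => by
      rw [hfdef, PrimeSpectrum.localization_comap_range _ q.asIdeal.primeCompl]
      have hle : s i ≤ q := hs ▸ s.monotone (Fin.le_last i)
      exact Set.disjoint_left.2 fun a ha hai => ha (hle hai)
    choose g hg using hmem
    have hlt : ∀ a b, f a < f b ↔ a < b := fun a b => by rw [lt_iff_le_not_ge, lt_iff_le_not_ge, hf, hf]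
    refine ⟨⟨s.length, g, fun i => ?_⟩, rfl, hg 0, hg _, fun hsat i => ?_⟩
    · show g i.castSucc < g i.succ
      rw [← hlt, hg, hg]; exact s.step i
    · refine covBy_of_lowerEmb f hf ?_
      show f (g i.castSucc) ⋖ f (g i.succ)
      rw [hg, hg]; exact hsat i
  have hinj : ∀ q : PrimeSpectrum R,
      Function.Injective (PrimeSpectrum.comap (algebraMap R (Localization.AtPrime q.asIdeal))) :=
    fun q => PrimeSpectrum.localization_comap_injective _ q.asIdeal.primeCompl
  refine ⟨fun p q hpq => ?_, fun s t h1 h2 hs ht => ?_⟩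
  · obtain ⟨a, ha⟩ : p ∈ Set.range (PrimeSpectrum.comap (algebraMap R (Localization.AtPrime q.asIdeal))) := by
      rw [PrimeSpectrum.localization_comap_range _ q.asIdeal.primeCompl]
      exact Set.disjoint_left.2 fun r hr hrp => hr (hpq hrp)
    obtain ⟨b, hb⟩ : q ∈ Set.range (PrimeSpectrum.comap (algebraMap R (Localization.AtPrime q.asIdeal))) := by
      rw [PrimeSpectrum.localization_comap_range _ q.asIdeal.primeCompl]
      exact Set.disjoint_left.2 fun r hr hrp => hr hrp
    have hab : a ≤ b := by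
      show a.asIdeal ≤ b.asIdeal
      rw [← IsLocalization.map_under q.asIdeal.primeCompl (Localization.AtPrime q.asIdeal) a.asIdeal,
        ← IsLocalization.map_under q.asIdeal.primeCompl (Localization.AtPrime q.asIdeal) b.asIdeal]
      exact Ideal.map_mono (show (PrimeSpectrum.comap _ a).asIdeal ≤ (PrimeSpectrum.comap _ b).asIdeal by
        rw [ha, hb]; exact hpq)
    obtain ⟨n, hn⟩ := (h q.asIdeal).1 a b hab
    refine ⟨n, fun s s1 s2 => ?_⟩
    obtain ⟨t, t1, t2, t3, -⟩ := lift q s s2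
    rw [← t1]
    exact hn t (hinj q (by rw [t2, s1, ha])) (hinj q (by rw [t3, s2, hb]))
  · obtain ⟨s', a1, a2, a3, a4⟩ := lift s.last s rfl
    obtain ⟨t', b1, b2, b3, b4⟩ := lift s.last t h2.symm
    rw [← a1, ← b1]
    exact (h s.last.asIdeal).2 s' t' (hinj _ (by rw [a2, b2, h1])) (hinj _ (by rw [a3, b3, h2])) (a4 hs) (b4 ht)

open AlgebraicGeometry

theorem isCatenarySpace_iff_affineOpens (S : Scheme.{u}) :
    (PtTop.IsCatenarySpace S ↔ ∀ U : S.affineOpens, CAlg.IsCatenary Γ(S, U)) ∧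
    (PtTop.IsCatenarySpace S ↔
      ∀ s : S, ∃ U : S.affineOpens, s ∈ (U : S.Opens) ∧ CAlg.IsCatenary Γ(S, U)) := by
  have h1 : PtTop.IsCatenarySpace S → ∀ U : S.affineOpens, CAlg.IsCatenary Γ(S, U) := fun h U =>
    (isCatenarySpace_affineOpen_iff U.2).1 (PtTopLib.catenary_iff_open_cover.2 h _ U.1.2.isLocallyClosed)
  have h2 : (∀ U : S.affineOpens, CAlg.IsCatenary Γ(S, U)) →
      ∀ s : S, ∃ U : S.affineOpens, s ∈ (U : S.Opens) ∧ CAlg.IsCatenary Γ(S, U) := fun h s => by
    obtain ⟨U, hU, hsU, -⟩ := exists_isAffineOpen_mem_and_subset (x := s) (U := (⊤ : S.Opens)) trivial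
    exact ⟨⟨U, hU⟩, hsU, h ⟨U, hU⟩⟩
  have h3 : (∀ s : S, ∃ U : S.affineOpens, s ∈ (U : S.Opens) ∧ CAlg.IsCatenary Γ(S, U)) →
      PtTop.IsCatenarySpace S := fun h => PtTopLib.catenary_iff_open_cover.1.2 fun s => by
    obtain ⟨U, hsU, hc⟩ := h s
    exact ⟨U.1, hsU, (isCatenarySpace_affineOpen_iff U.2).2 hc⟩
  exact ⟨⟨h1, fun h => h3 (h2 h)⟩, ⟨fun h => h2 (h1 h), h3⟩⟩

theorem isCatenary_of_ringEquiv {A B : Type u} [CommRing A] [CommRing B] (e : A ≃+* B)
    (h : CAlg.IsCatenary A) : CAlg.IsCatenary B :=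
  CatenaryLib.isCatenary_of_surjective e.toRingHom e.surjective h

theorem isCatenarySpace_iff_stalks (X : Scheme.{u}) :
    PtTop.IsCatenarySpace X ↔ ∀ x : X, CAlg.IsCatenary (X.presheaf.stalk x) := by
  refine ⟨fun h x => ?_, fun h => (isCatenarySpace_iff_affineOpens X).1.2 fun U => ?_⟩
  · obtain ⟨U, hU, hxU, -⟩ := exists_isAffineOpen_mem_and_subset (x := x) (U := (⊤ : X.Opens)) trivial
    letI : Algebra Γ(X, U) (X.presheaf.stalk x) := (X.presheaf.germ U x hxU).hom.toAlgebra
    haveI : IsLocalization.AtPrime (X.presheaf.stalk x) (hU.primeIdealOf ⟨x, hxU⟩).asIdeal :=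
      hU.isLocalization_stalk ⟨x, hxU⟩
    exact CatenaryLib.isCatenary_of_isLocalization (hU.primeIdealOf ⟨x, hxU⟩).asIdeal.primeCompl
      ((isCatenarySpace_iff_affineOpens X).1.1 h ⟨U, hU⟩)
  · refine isCatenary_of_atPrime _ fun p hp => ?_
    let q : Spec Γ(X, U.1) := ⟨p, hp⟩
    have hx : U.2.fromSpec q ∈ U.1 := by
      have := Set.mem_range_self (f := ⇑U.2.fromSpec) q
      rwa [U.2.range_fromSpec] at this
    letI : Algebra Γ(X, U.1) (X.presheaf.stalk (U.2.fromSpec q)) :=
      (X.presheaf.germ U.1 _ hx).hom.toAlgebra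
    haveI := U.2.isLocalization_stalk ⟨_, hx⟩
    have e : U.2.primeIdealOf ⟨_, hx⟩ = q :=
      U.2.fromSpec.isOpenEmbedding.injective (U.2.fromSpec_primeIdealOf ⟨_, hx⟩)
    haveI : IsLocalization.AtPrime (X.presheaf.stalk (U.2.fromSpec q)) p := by
      have hl := U.2.isLocalization_stalk ⟨_, hx⟩
      simp only [e] at hl
      exact hl
    exact isCatenary_of_ringEquiv
      (IsLocalization.algEquiv p.primeCompl (X.presheaf.stalk (U.2.fromSpec q)) _).toRingEquiv (h _)

end Groth.Agent.CatenarySch
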