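import Groth.Agent.PtTopLib.Catenary
import Mathlib.Topology.NoetherianSpace
import Mathlib.Tactic

/-!
# Dimension functions near a point of a catenary Noetherian space
-/

set_option autoImplicit false
set_option linter.style.haveILetI false

universe u

open TopologicalSpace Topology

namespace Groth.Agent.CatenarySch

variable {X : Type u} [TopologicalSpace X] [QuasiSober X] [T0Space X] [NoetherianSpace X]

theorem exists_dimensionFunction_nhd (hX : PtTop.IsCatenarySpace X) (s : X) :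
    ∃ W : Opens X, s ∈ W ∧ ∃ δ : W → ℤ, PtTop.IsDimensionFunction δ := by
  classical
  obtain ⟨hfin, hadd⟩ := PtTopLib.isCatenarySpace_iff.1 hX
  obtain ⟨S, hSf, hSc, hSi, hS⟩ :=
    NoetherianSpace.exists_finite_set_isClosed_irreducible (isClosed_univ (X := X))
  have hpair : ∀ Z ∈ S, ∀ Z' ∈ S, ∃ T : Set (Set X), T.Finite ∧ (∀ t ∈ T, IsClosed t) ∧
      (∀ t ∈ T, IsIrreducible t) ∧ Z ∩ Z' = ⋃₀ T := fun Z hZ Z' hZ' =>
    NoetherianSpace.exists_finite_set_isClosed_irreducible ((hSc Z hZ).inter (hSc Z' hZ'))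
  choose T hTf hTc hTi hT using hpair
  let B : Set (Set X) := S ∪ ⋃ (Z : Set X) (hZ : Z ∈ S) (Z' : Set X) (hZ' : Z' ∈ S), T Z hZ Z' hZ'
  have hBfin : B.Finite := hSf.union (hSf.biUnion' fun Z hZ => hSf.biUnion' fun Z' hZ' => hTf Z hZ Z' hZ')
  have hBc : ∀ t ∈ B, IsClosed t := by
    rintro t (ht | ht)
    · exact hSc t ht
    · simp only [Set.mem_iUnion] at ht
      obtain ⟨Z, hZ, Z', hZ', ht⟩ := ht
      exact hTc Z hZ Z' hZ' t ht
  let bad : Set X := ⋃₀ {t ∈ B | s ∉ t}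
  have hbad : IsClosed bad := by
    show IsClosed (⋃₀ {t ∈ B | s ∉ t})
    rw [Set.sUnion_eq_biUnion]
    exact (hBfin.subset fun t ht => ht.1).isClosed_biUnion fun t ht => hBc t ht.1
  let W : Opens X := ⟨badᶜ, hbad.isOpen_compl⟩
  have hW : ∀ t ∈ B, ∀ x ∈ t, x ∈ W → s ∈ t := fun t ht x hx hxW => by
    by_contra hst
    exact hxW ⟨t, ⟨ht, hst⟩, hx⟩
  refine ⟨W, fun ⟨t, ht, hst⟩ => ht.2 hst, ?_⟩
  let IC : ∀ Z ∈ S, IrreducibleCloseds X := fun Z hZ => ⟨Z, hSi Z hZ, hSc Z hZ⟩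
  let c : ∀ (x : X) (Z : Set X) (hZ : Z ∈ S), ℤ := fun x Z hZ =>
    ((PtTop.codim (PtTopLib.pointClosure s) (IC Z hZ : Set X)).toNat : ℤ) -
      ((PtTop.codim (PtTopLib.pointClosure x) (IC Z hZ : Set X)).toNat : ℤ)
  have hpc : ∀ {x : X} {Y : IrreducibleCloseds X}, x ∈ (Y : Set X) → PtTopLib.pointClosure x ≤ Y :=
    fun {x Y} hx => closure_minimal (Set.singleton_subset_iff.2 hx) Y.isClosed
  have haddn : ∀ (Y Y' Y'' : IrreducibleCloseds X), Y ≤ Y' → Y' ≤ Y'' →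
      ((PtTop.codim Y (Y'' : Set X)).toNat : ℤ) =
        (PtTop.codim Y (Y' : Set X)).toNat + (PtTop.codim Y' (Y'' : Set X)).toNat := fun Y Y' Y'' h1 h2 => by
    rw [hadd Y Y' Y'' h1 h2, ENat.toNat_add (hfin _ _ h1) (hfin _ _ h2)]
    push_cast; rfl
  -- independence of the component
  have hindep : ∀ (x : X), x ∈ W → ∀ Z (hZ : Z ∈ S) Z' (hZ' : Z' ∈ S), x ∈ Z → x ∈ Z' →
      c x Z hZ = c x Z' hZ' := by
    intro x hxW Z hZ Z' hZ' hxZ hxZ'
    obtain ⟨t, ht, hxt⟩ : x ∈ ⋃₀ T Z hZ Z' hZ' := hT Z hZ Z' hZ' ▸ ⟨hxZ, hxZ'⟩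
    have htB : t ∈ B := Or.inr (by simp only [Set.mem_iUnion]; exact ⟨Z, hZ, Z', hZ', ht⟩)
    let Tc : IrreducibleCloseds X := ⟨t, hTi Z hZ Z' hZ' t ht, hTc Z hZ Z' hZ' t ht⟩
    have hst : s ∈ t := hW t htB x hxt hxW
    have hsub : t ⊆ Z ∩ Z' := hT Z hZ Z' hZ' ▸ Set.subset_sUnion_of_mem ht
    have h1 : Tc ≤ IC Z hZ := fun y hy => (hsub hy).1
    have h2 : Tc ≤ IC Z' hZ' := fun y hy => (hsub hy).2
    simp only [c]
    rw [haddn _ Tc _ (hpc hst) h1, haddn _ Tc _ (hpc (Y := Tc) hxt) h1,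
      haddn _ Tc _ (hpc hst) h2, haddn _ Tc _ (hpc (Y := Tc) hxt) h2]
    ring
  have hex : ∀ x : X, ∃ Z, Z ∈ S ∧ x ∈ Z := fun x => by
    obtain ⟨Z, hZ, hxZ⟩ : x ∈ ⋃₀ S := hS ▸ Set.mem_univ x
    exact ⟨Z, hZ, hxZ⟩
  choose comp hcomp hmem using hex
  refine ⟨fun x => c x.1 (comp x.1) (hcomp x.1), ?_⟩
  have hstep : ∀ x y : W, x ⤳ y → c x.1 (comp x.1) (hcomp x.1) = c y.1 (comp y.1) (hcomp y.1) +
      ((PtTop.codim (PtTopLib.pointClosure y.1) (PtTopLib.pointClosure x.1 : Set X)).toNat : ℤ) := by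
    intro x y hxy
    have hxy' : x.1 ⤳ y.1 := (subtype_specializes_iff _ _).1 hxy
    have hyZ : y.1 ∈ comp x.1 := hxy'.mem_closed (hSc _ (hcomp x.1)) (hmem x.1)
    rw [hindep y.1 y.2 (comp y.1) (hcomp y.1) (comp x.1) (hcomp x.1) (hmem y.1) hyZ]
    have := haddn (PtTopLib.pointClosure y.1) (PtTopLib.pointClosure x.1) (IC _ (hcomp x.1))
      (hpc (specializes_iff_mem_closure.1 hxy')) (hpc (Y := IC _ (hcomp x.1)) (hmem x.1))
    simp only [c]
    linarith
  have hlt : ∀ x y : W, x ⤳ y → x ≠ y →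
      PtTopLib.pointClosure y.1 < PtTopLib.pointClosure x.1 := fun x y hxy hne => by
    refine lt_of_le_of_ne (hpc (specializes_iff_mem_closure.1 ((subtype_specializes_iff _ _).1 hxy))) fun h => hne (Subtype.ext ?_)
    have := congrArg PtTopLib.gen h
    rw [PtTopLib.gen_pointClosure, PtTopLib.gen_pointClosure] at this
    exact this.symm
  refine ⟨fun x y hxy hne => ?_, fun x y hxy => ?_⟩
  · have h1 : (1 : ℕ∞) ≤ PtTop.codim (PtTopLib.pointClosure y.1) (PtTopLib.pointClosure x.1 : Set X) :=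
      (le_of_eq rfl).trans (PtTopLib.length_le_codim ((RelSeries.singleton _ _).snoc _ (hlt x y hxy hne))
        ((RelSeries.head_snoc _ _ _).trans rfl) (RelSeries.last_snoc _ _ _).le)
    have h2 := ENat.toNat_le_toNat h1 (hfin _ _ (hlt x y hxy hne).le)
    have h3 := hstep x y hxy
    simp only [ENat.toNat_one] at h2
    show c y.1 (comp y.1) (hcomp y.1) < c x.1 (comp x.1) (hcomp x.1)
    omega
  · obtain ⟨hsp, hne, himm⟩ := hxy
    have hcov : PtTopLib.pointClosure y.1 ⋖ PtTopLib.pointClosure x.1 := by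
      refine ⟨hlt x y hsp hne, fun C h1 h2 => ?_⟩
      have a1 : PtTopLib.gen C ⤳ y.1 := by
        simpa only [PtTopLib.gen_pointClosure] using PtTopLib.le_iff_gen.1 h1.le
      have a2 : x.1 ⤳ PtTopLib.gen C := by
        simpa only [PtTopLib.gen_pointClosure] using PtTopLib.le_iff_gen.1 h2.le
      have hzW : PtTopLib.gen C ∈ W := a1.mem_open W.2 y.2
      have hC : ∀ {w : W}, w.1 = PtTopLib.gen C → C = PtTopLib.pointClosure w.1 := fun {w} hw =>
        le_antisymm (PtTopLib.le_iff_gen.2 (by rw [PtTopLib.gen_pointClosure, hw]))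
          (PtTopLib.le_iff_gen.2 (by rw [PtTopLib.gen_pointClosure, hw]))
      rcases himm ⟨_, hzW⟩ ((subtype_specializes_iff _ _).2 a2) ((subtype_specializes_iff _ _).2 a1) with h | h
      · exact h2.ne (hC (congrArg Subtype.val h).symm)
      · exact h1.ne (hC (congrArg Subtype.val h).symm).symm
    have h1 : PtTop.codim (PtTopLib.pointClosure y.1) (PtTopLib.pointClosure x.1 : Set X) = 1 := by
      have := PtTopLib.length_eq_of_additive hadd ((RelSeries.singleton _ _).snoc _ hcov.lt) ?_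
      · erw [RelSeries.head_snoc, RelSeries.last_snoc] at this
        exact this.symm.trans rfl
      · intro i
        have h1 : i.1 < 0 + 1 := i.2
        have : i = ⟨0, lt_of_le_of_lt (Nat.zero_le _) i.2⟩ := Fin.ext (show i.1 = 0 by omega)
        rw [this]
        exact hcov
    have h3 := hstep x y hsp
    rw [h1] at h3
    simpa using h3

end Groth.Agent.CatenarySch
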